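import Mathlib
import Cfsg.Prelude.Def_GeometricClasses
import Cfsg.Agent.Lib.Helper27.ASC.Defs
import Cfsg.Agent.Lib.helper23.ASCO.Defs
import Cfsg.Agent.Lib.Helper19.ASG.Defs
import Cfsg.Agent.Lib.Helper25.ASO.Defs
import Cfsg.Agent.Lib.helper23.ASE.Defs
import Cfsg.Agent.Lib.Helper13.ASETAU
import Cfsg.Agent.Lib.helper4.ASECGRAM
import Cfsg.Agent.Lib.Helper1.ASODEC2
import Cfsg.Agent.Lib.Helper20.ASOIDEM
import Cfsg.Agent.Lib.Helper20.ASOSTAR
import Cfsg.Agent.Lib.Helper25.ASOADJ
import Cfsg.Agent.Lib.Helper1.ASGCLIF5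
import Cfsg.Agent.Lib.Helper1.ASGCNORM
import Cfsg.Agent.Lib.Helper10.ASGCONE
import Cfsg.Agent.Lib.Helper10.ASGCSWAP
import Cfsg.Agent.Lib.Helper20.ASGCDIM
import Cfsg.Agent.Lib.Helper24.ASGCASM
import Cfsg.Agent.Lib.Helper25.ASGCFULL
import Cfsg.Agent.Lib.helper8.ASCSCHURN
import Cfsg.Agent.Lib.Helper18.ASCSCHURB

/-!
# Project E10M (leader: helper16) : the GENERAL-`n` dichotomy for a normal subgroup of an irreducible group of isometries
of a quadratic form (all characteristics).  Mechanical copy of `e8_dichotomy` / `e8_idem_plus` of `helper23/ASE/Main.lean.txt`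
with `8` replaced by `n`, RETURNING the data (orthogonal decomposition, fixed-point-free pairing, field, tensor Gram factors)
instead of closing the branches.  Reusable for every even-dimensional orthogonal row (S5850, S5874, S5847, S5871).
-/

set_option autoImplicit false
set_option linter.unusedVariables false
set_option linter.unusedSectionVars false

namespace Cfsg.Agent.Lib.Helper16.E10M

open Cfsg Cfsg.Geo Cfsg.Agent.Lib.Helper27.ASC Cfsg.Agent.Lib.helper23.ASCO Cfsg.Agent.Lib.Helper19.ASG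
  Cfsg.Agent.Lib.Helper25.ASO Cfsg.Agent.Lib.helper23.ASE
open scoped MatrixGroups Matrix Kronecker

variable {n : ℕ} {F : Type*} [Field F] [Fintype F]

/-- the idempotent branch: a non-trivial idempotent in the centre of the commutant of `M ⊴ G` gives an orthogonal decomposition
into isometric blocks stabilised by `G` (`τ = id`) or an idempotent system paired without fixed point by the adjoint. -/
theorem en_idem (hn0 : 0 < n) (Q : QuadraticForm F (Fin n → F)) (hQ : (QuadraticMap.polarBilin Q).Nondegenerate)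
    {G M : Subgroup (GL (Fin n) F)} (hG : Irr G) (hGO : G ≤ isometryGroup F (⇑Q)) (hM : NormalIn M G)
    (e₀ : Matrix (Fin n) (Fin n) F) (he₀ : e₀ ∈ asgZ M) (hid : e₀ * e₀ = e₀) (h0 : e₀ ≠ 0) (h1 : e₀ ≠ 1) :
    (∃ (t k : ℕ) (D : Fin t → Submodule F (Fin n → F)), IsOrthogonalMDecomposition (⇑Q) k D ∧
        G ≤ decompositionStabilizer D) ∨
    (∃ (t : ℕ) (E : Fin t → Matrix (Fin n) (Fin n) F) (τ : Equiv.Perm (Fin t)), IsIdemSystem G M E ∧
        (∀ i, oadj (⇑Q) (E i) = E (τ i)) ∧ (∀ i, τ (τ i) = i) ∧ (∀ i, τ i ≠ i)) := by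
  classical
  obtain ⟨t, E, hE⟩ := idem_system hn0 hG hM e₀ he₀ hid h0 h1
  obtain ⟨τ, hτ, hτ2, hcase⟩ := idem_adj_perm Q hQ hGO hM E hE
  rcases hcase with hfix | hfp
  · left
    have hsa : ∀ i, oadj (⇑Q) (E i) = E i := fun i => by rw [hτ i, hfix i]
    obtain ⟨k, hD, hle⟩ := odec_of_selfadj Q hQ hGO E hE hsa
    exact ⟨t, k, _, hD, hle⟩
  · right
    exact ⟨t, E, τ, hE, hτ, hτ2, hfp⟩

/-- the general dichotomy -/
theorem en_dichotomy (hn0 : 0 < n) (Q : QuadraticForm F (Fin n → F))
    (hQ : (QuadraticMap.polarBilin Q).Nondegenerate)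
    {G M : Subgroup (GL (Fin n) F)} (hG : Irr G) (hGO : G ≤ isometryGroup F (⇑Q)) (hM : NormalIn M G) :
    (∃ (t k : ℕ) (D : Fin t → Submodule F (Fin n → F)), IsOrthogonalMDecomposition (⇑Q) k D ∧
        G ≤ decompositionStabilizer D) ∨
    (∃ (t : ℕ) (E : Fin t → Matrix (Fin n) (Fin n) F) (τ : Equiv.Perm (Fin t)), IsIdemSystem G M E ∧
        (∀ i, oadj (⇑Q) (E i) = E (τ i)) ∧ (∀ i, τ (τ i) = i) ∧ (∀ i, τ i ≠ i)) ∨
    (∃ (r : ℕ) (K' : Subalgebra F (Matrix (Fin n) (Fin n) F)), r.Prime ∧ r ∣ n ∧ IsFieldSubalgebra r K' ∧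
        K' ≤ asgZ M ∧ IsFieldSubalgebra (Module.finrank F (asgZ M)) (asgZ M) ∧ G ≤ subalgebraNormalizer K') ∨
    (∃ (k d : ℕ) (e : Fin n ≃ Fin k × Fin d) (P : GL (Fin n) F) (A : Matrix (Fin k) (Fin k) F)
        (B : Matrix (Fin d) (Fin d) F), 1 < k ∧ k < n ∧ n = k * d ∧ G ≤ tensorProductSubgroup k d e P ∧
        IsUnit A.det ∧ IsUnit B.det ∧ ((Aᵀ = A ∧ Bᵀ = B) ∨ (Aᵀ = -A ∧ Bᵀ = -B)) ∧
        KronGram (QuadraticMap.polar (⇑Q)) e P A B) ∨
    M ≤ scalars (Fin n) F ∨ AbsIrr M := by
  classical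
  by_cases hidem : ∀ e ∈ asgZ M, e * e = e → e = 0 ∨ e = 1
  · have hfield := asgclif_field hn0 hG hM hidem
    by_cases hb2 : 2 ≤ Module.finrank F (asgZ M)
    · -- a field
      right; right; left
      obtain ⟨r, K', hr, -, h1, h2', h3⟩ := asgclif_primesub (asgZ M) hfield hb2
      have hdvd : r ∣ n := field_finrank_dvd hn0 K' h1
      exact ⟨r, K', hr, hdvd, h1, h2', hfield, (asgclif_normalizes_Z hM).trans h3⟩
    · -- the centre is `F`
      haveI : Nonempty (Fin n) := ⟨⟨0, hn0⟩⟩
      have hb1 : Module.finrank F (asgZ M) = 1 := by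
        have h0 : Module.finrank F (asgZ M) ≠ 0 := by
          intro h0
          haveI : Subsingleton (asgZ M) := Module.finrank_zero_iff.mp h0
          have h01 : (0 : asgZ M) = 1 := Subsingleton.elim _ _
          have h2 := congrArg (fun y : asgZ M => (y : Matrix (Fin n) (Fin n) F)) h01
          simp at h2
        omega
      have hbot : asgZ M = ⊥ := Subalgebra.finrank_eq_one_iff.mp hb1
      obtain ⟨k, ⟨φ⟩⟩ := asgclif_matrix hn0 hG hM (fun z hz => by
        rw [hbot, Algebra.mem_bot] at hz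
        obtain ⟨c, rfl⟩ := hz
        exact ⟨c, Algebra.algebraMap_eq_smul_one c⟩)
      obtain ⟨hk0, hkn⟩ := cent_matrix_le hn0 φ
      rcases Nat.lt_or_ge 1 k with hk1 | hk1
      · rcases Nat.lt_or_ge k n with hlt | hge
        · -- tensor decomposition
          right; right; right; left
          obtain ⟨d, e, P, hstd⟩ := std_embedding (n := n) hk0
            ((centAlg M).val.comp (φ.symm : Matrix (Fin k) (Fin k) F →ₐ[F] centAlg M))
          have hnkd : n = k * d := by
            have := Fintype.card_congr e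
            simpa using this
          have hGle : G ≤ tensorProductSubgroup k d e P :=
            (normalizes_cent hM).trans
              (normalizer_le_tensor hk0 (centAlg M) φ e P (fun a => hstd a))
          have hstar : ∀ a : Matrix (Fin k) (Fin k) F, ∃ a' : Matrix (Fin k) (Fin k) F,
              oadj (⇑Q) ((P : Matrix (Fin n) (Fin n) F) *
                  Matrix.reindexAlgEquiv F F e.symm (a ⊗ₖ (1 : Matrix (Fin d) (Fin d) F)) *
                  ((P⁻¹ : GL (Fin n) F) : Matrix (Fin n) (Fin n) F)) =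
                (P : Matrix (Fin n) (Fin n) F) *
                  Matrix.reindexAlgEquiv F F e.symm (a' ⊗ₖ (1 : Matrix (Fin d) (Fin d) F)) *
                  ((P⁻¹ : GL (Fin n) F) : Matrix (Fin n) (Fin n) F) := by
            intro a
            have h1 : oadj (⇑Q) (((φ.symm a : centAlg M) : Matrix (Fin n) (Fin n) F)) ∈ centAlg M :=
              star_mem_cent Q hQ (hM.1.trans hGO) _ (φ.symm a).2
            refine ⟨φ ⟨_, h1⟩, ?_⟩
            have h2' := hstd (φ ⟨_, h1⟩)
            have h3 := hstd a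
            have e2 : ((centAlg M).val.comp (φ.symm : Matrix (Fin k) (Fin k) F →ₐ[F] centAlg M)) (φ ⟨_, h1⟩) =
                oadj (⇑Q) (((φ.symm a : centAlg M) : Matrix (Fin n) (Fin n) F)) := by
              change ((φ.symm (φ ⟨_, h1⟩) : centAlg M) : Matrix (Fin n) (Fin n) F) = _
              rw [AlgEquiv.symm_apply_apply]
            have e3 : ((centAlg M).val.comp (φ.symm : Matrix (Fin k) (Fin k) F →ₐ[F] centAlg M)) a =
                ((φ.symm a : centAlg M) : Matrix (Fin n) (Fin n) F) := rfl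
            rw [← h3, ← h2', e2, e3]
          obtain ⟨A, B, hA, hB, hsign, hAB⟩ := etensor_gram hn0 Q hQ e P hstar
          exact ⟨k, d, e, P, A, B, hk1, hlt, hnkd, hGle, hA, hB, hsign, hAB⟩
        · have hkn' : k = n := le_antisymm hkn hge
          subst hkn'
          exact Or.inr (Or.inr (Or.inr (Or.inr (Or.inl (scalar_of_cent_full φ)))))
      · have hk : k = 1 := by omega
        subst hk
        exact Or.inr (Or.inr (Or.inr (Or.inr (Or.inr (absIrr_of_cent_one hG hM φ)))))
  · push Not at hidem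
    obtain ⟨e0, he0, hid0, h00, h01⟩ := hidem
    rcases en_idem hn0 Q hQ hG hGO hM e0 he0 hid0 h00 h01 with h | h
    · exact Or.inl h
    · exact Or.inr (Or.inl h)

end Cfsg.Agent.Lib.Helper16.E10M
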