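import Mathlib
import Cfsg.Prelude.Def_GeometricClasses
import Cfsg.Agent.Lib.Helper27.ASC.Defs
import Cfsg.Agent.Lib.helper23.ASCO.Defs
import Cfsg.Agent.Lib.Helper19.ASG.Defs
import Cfsg.Agent.Lib.Helper25.ASO.Defs
import Cfsg.Agent.Lib.helper23.ASE.Defs
import Cfsg.Agent.Lib.Helper16.ASE10.Defs
import Cfsg.Agent.Lib.Helper16.ASE10.Dich
-- the pieces of project E10M
import Cfsg.Agent.Lib.helper4.E10MHALF
import Cfsg.Agent.Lib.helper4.E10MFRSUB
import Cfsg.Agent.Lib.Helper16.E10MPLUS2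
import Cfsg.Agent.Lib.Helper16.E10MDISC
import Cfsg.Agent.Lib.Helper10.TX2SMQ3
import Cfsg.Agent.Lib.Helper20.E10MFTWO
import Cfsg.Agent.Lib.Helper20.E10MFSUB
import Cfsg.Agent.Lib.Helper22.E10MFODDSA
import Cfsg.Agent.Lib.Helper20.E10MF5HALF
-- landed: project ASE with all its pieces
import Cfsg.Agent.Lib.helper23.ASEMain
import Cfsg.Agent.Lib.helper8.ASECdim2
import Cfsg.Agent.Lib.Helper9.QD2T
import Cfsg.Agent.Lib.Helper19.ASCOCONV
import Cfsg.Agent.Lib.Helper11.ASEPRC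
import Cfsg.Agent.Lib.Helper11.ASEPRE
import Cfsg.Agent.Lib.helper4.E12MBLKPLUS
import Cfsg.Agent.Lib.Helper26.ASGD1MAIN
import Cfsg.Agent.Lib.Helper10.ASCSUBF2

/-!
# Project E10M : assembly of S5850 from the piece statements
-/

set_option autoImplicit false
set_option linter.unusedVariables false
set_option linter.unusedSectionVars false

namespace Cfsg.Agent.Lib.Helper16.E10M

open Cfsg Cfsg.Geo Cfsg.Agent.Lib.Helper27.ASC Cfsg.Agent.Lib.helper23.ASCO Cfsg.Agent.Lib.Helper19.ASG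
  Cfsg.Agent.Lib.Helper25.ASO Cfsg.Agent.Lib.helper23.ASE
open scoped MatrixGroups Matrix Kronecker

variable {n : ℕ} {F : Type*} [Field F] [Fintype F]

/-- the order of a finite field of odd order modulo 4 -/
theorem e10_mod4 (hodd : Odd (Fintype.card F)) : Fintype.card F % 4 = 1 ∨ Fintype.card F % 4 = 3 := by
  obtain ⟨j, hj⟩ := hodd
  omega

theorem e10_iso_refl (Q : (Fin n → F) → F) (W : Submodule F (Fin n → F)) : AreIsometricFor Q W W :=
  ⟨LinearEquiv.refl F W, fun w => rfl⟩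

theorem e10_iso_symm (Q : (Fin n → F) → F) {W W' : Submodule F (Fin n → F)} (h : AreIsometricFor Q W W') :
    AreIsometricFor Q W' W := by
  obtain ⟨e, he⟩ := h
  refine ⟨e.symm, fun w => ?_⟩
  have := he (e.symm w)
  rw [LinearEquiv.apply_symm_apply] at this
  exact this.symm

/-- two isometric halves form an orthogonal decomposition with isometric blocks -/
theorem e10_orth_of_halves (Q : (Fin n → F) → F) {k : ℕ} (D : Fin 2 → Submodule F (Fin n → F))
    (hD : IsNondegenerateMDecomposition (QuadraticMap.polar Q) k D) (hiso : AreIsometricFor Q (D 0) (D 1)) :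
    IsOrthogonalMDecomposition Q k D := by
  refine ⟨hD, fun i j => ?_⟩
  fin_cases i <;> fin_cases j
  · exact e10_iso_refl Q _
  · exact hiso
  · exact e10_iso_symm Q hiso
  · exact e10_iso_refl Q _

/-- the ASG D1 chain: an absolutely irreducible minimal non-scalar normal subgroup with scalar commutator subgroup lives in prime
power dimension -/
theorem e10_d1_prime_pow (hn : 3 ≤ n) {H N : Subgroup (GL (Fin n) F)} (hN : MinNonscalar N H) (hA : AbsIrr N)
    (hab : ⁅N, N⁆ ≤ scalars (Fin n) F) : ∃ r m : ℕ, r.Prime ∧ n = r ^ m := by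
  have hn2 : 2 ≤ n := by omega
  have hnc := d1_nonab hn2 hA
  obtain ⟨r, hr, hel⟩ := d1_elab hN hab
  have hpow := d1_pow hN hnc hab hr hel
  obtain ⟨R, hR, hRH, hRN⟩ := d1_core hN.1 hA hab hr hel hpow
  have hord := d1_order (by omega) hR.absIrr hR.comm
  obtain ⟨m, hm1, hnm, hcard⟩ := d1_arith hn2 hR hord
  exact ⟨r, m, hr, hnm⟩

theorem e10_not_prime_pow {r m : ℕ} (hr : r.Prime) (h : 10 = r ^ m) : False := by
  have hm0 : m ≠ 0 := by
    rintro rfl
    simp at h
  have hdvd : r ∣ 2 * 5 := by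
    have h10 : (2 * 5 : ℕ) = r ^ m := by rw [← h]
    rw [h10]
    exact dvd_pow_self r hm0
  have hr25 : r = 2 ∨ r = 5 := by
    rcases (Nat.Prime.dvd_mul hr).mp hdvd with h2 | h5
    · exact Or.inl ((Nat.prime_dvd_prime_iff_eq hr Nat.prime_two).mp h2)
    · exact Or.inr ((Nat.prime_dvd_prime_iff_eq hr (by norm_num)).mp h5)
  have hm4 : m < 4 := by
    by_contra hge
    have h1 : 2 ^ 4 ≤ r ^ m := (Nat.pow_le_pow_right (by norm_num) (by omega)).trans (Nat.pow_le_pow_left hr.two_le m)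
    omega
  rcases hr25 with rfl | rfl <;> interval_cases m <;> omega

/-- an adjoint-closed subalgebra is closed under `oadj` -/
theorem e10_oadj_of_adjClosed (Q : QuadraticForm F (Fin n → F)) (hQ : (QuadraticMap.polarBilin Q).Nondegenerate)
    (K : Subalgebra F (Matrix (Fin n) (Fin n) F)) (h : IsAdjointClosedFor (QuadraticMap.polar (⇑Q)) K) :
    ∀ k ∈ K, oadj (⇑Q) k ∈ K := by
  intro k hk
  obtain ⟨k', hk', hkk'⟩ := h k hk
  have := oadj_unique Q hQ k k' hkk'
  rw [← this]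
  exact hk'

/-- a skew-symmetric matrix of odd size is singular when `2 ≠ 0` -/
theorem e10_skew_odd_det {d : ℕ} (h2 : (2 : F) ≠ 0) (hd : Odd d) (B : Matrix (Fin d) (Fin d) F) (hB : Bᵀ = -B) :
    B.det = 0 := by
  have h1 : B.det = (-1 : F) ^ d * B.det := by
    conv_lhs => rw [← Matrix.det_transpose, hB, Matrix.det_neg, Fintype.card_fin]
  rw [hd.neg_one_pow] at h1
  have h3 : (2 : F) * B.det = 0 := by linear_combination h1
  rcases mul_eq_zero.mp h3 with h | h
  · exact absurd h h2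
  · exact h

section Row

variable (Q : QuadraticForm F (Fin 10 → F)) (hQ : (QuadraticMap.polarBilin Q).Nondegenerate)
  (hminus : ¬ IsPlusTypeOn (⇑Q) ⊤) (H : Subgroup (GL (Fin 10) F)) (hH : IsMaximalIn (omegaGL (⇑Q)) H)

include hQ hminus hH

/-- the decomposition alternatives : `H ≤ Stab D` for an orthogonal decomposition into isometric blocks -/
theorem e10_dec {t k : ℕ} (D : Fin t → Submodule F (Fin 10 → F)) (hD : IsOrthogonalMDecomposition (⇑Q) k D)
    (hle : H ≤ decompositionStabilizer D) : ConclE10 (⇑Q) H := by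
  classical
  have hHΩ : H ≤ omegaGL (⇑Q) := hH.1.le
  have hHO : H ≤ isometryGroup F (⇑Q) := hHΩ.trans (omega_le_iso _)
  have hcard := Cfsg.Agent.Lib.Helper28.Ld.card_eq D hD.decomp.decomp
  have ht2 := hD.decomp.decomp.two_le
  have hk0 := hD.decomp.decomp.pos
  have hcases : (t = 2 ∧ k = 5) ∨ (t = 5 ∧ k = 2) ∨ (t = 10 ∧ k = 1) := by
    have ht10 : t ≤ 10 := by nlinarith
    have hk10 : k ≤ 10 := by nlinarith
    clear hle hD D
    interval_cases t <;> interval_cases k <;> simp_all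
  have hi0 : 0 < t := by omega
  have hnd0 : IsNondegenerateOn (QuadraticMap.polar (⇑Q)) (D ⟨0, hi0⟩) := hD.decomp.nondegenerate _
  have hfr0 : Module.finrank F (D ⟨0, hi0⟩) = k := hD.decomp.decomp.finrank_eq _
  rcases hcases with ⟨rfl, rfl⟩ | ⟨rfl, rfl⟩ | ⟨rfl, rfl⟩
  · -- two isometric 5-spaces
    have hodd : Odd (Fintype.card F) := odd_card_of_nd_odd Q _ hnd0 (by rw [hfr0]; decide)
    have hmax : H = decompositionStabilizer D ⊓ omegaGL (⇑Q) :=
      max_principle hH hle (asepr_omega_not_le_dec_ge2 (by norm_num) Q hQ D hD.decomp.decomp (by norm_num))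
    rcases e10_mod4 hodd with h1 | h3
    · exfalso
      apply hminus
      refine plus_of_dec_sq ?_ Q hQ D hD (by decide)
      rw [FiniteField.isSquare_neg_one_iff]
      omega
    · exact Or.inr (Or.inr (Or.inr (Or.inr (Or.inr (Or.inr (Or.inr (Or.inr (Or.inl ⟨h3, D, hD, hmax⟩))))))))
  · -- five isometric planes
    by_cases hp : ∃ i, IsPlusTypeOn (⇑Q) (D i)
    · obtain ⟨i, hi⟩ := hp
      exact absurd (Cfsg.Agent.Lib.Lead.E12M.plus_of_block_plus Q D hD i hi) hminus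
    · push Not at hp
      by_cases hq3 : Fintype.card F = 3
      · obtain ⟨D', hD', hst⟩ := Cfsg.Agent.Lib.Helper15.TX2S.minus_planes_q3 hq3 Q D hD hp
        have hle' : H ≤ decompositionStabilizer D' := (le_inf hle hHO).trans hst
        have hmax : H = decompositionStabilizer D' ⊓ omegaGL (⇑Q) :=
          max_principle hH hle' (asepr_omega_not_le_dec (by norm_num) Q hQ D' hD'.decomp.decomp
            (Or.inl (by rw [hq3])))
        exact Or.inr (Or.inr (Or.inr (Or.inr (Or.inr (Or.inr (Or.inl ⟨⟨3, Nat.prime_three, hq3, by norm_num⟩,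
          D', hD', hmax⟩))))))
      · have hmax : H = decompositionStabilizer D ⊓ omegaGL (⇑Q) :=
          max_principle hH hle (asepr_omega_not_le_dec_ge2 (by norm_num) Q hQ D hD.decomp.decomp (by norm_num))
        exact Or.inr (Or.inr (Or.inr (Or.inr (Or.inr (Or.inr (Or.inr (Or.inl ⟨hq3, D, hD, hmax⟩)))))))
  · -- a frame of ten isometric lines
    have hodd : Odd (Fintype.card F) := odd_card_of_nd_odd Q _ hnd0 (by rw [hfr0]; decide)
    have hq3 : 3 ≤ Fintype.card F := by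
      have h1 : 1 < Fintype.card F := Fintype.one_lt_card
      obtain ⟨j, hj⟩ := hodd
      omega
    have hmax : H = decompositionStabilizer D ⊓ omegaGL (⇑Q) :=
      max_principle hH hle (asepr_omega_not_le_dec (by norm_num) Q hQ D hD.decomp.decomp (Or.inl hq3))
    rcases e10_mod4 hodd with h1 | h3
    · exfalso
      apply hminus
      refine plus_of_dec_sq ?_ Q hQ D hD (by decide)
      rw [FiniteField.isSquare_neg_one_iff]
      omega
    · by_cases hprime : (Fintype.card F).Prime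
      · exact Or.inr (Or.inr (Or.inr (Or.inr (Or.inr (Or.inr (Or.inl ⟨⟨_, hprime, rfl, h3⟩, D, hD, hmax⟩))))))
      · obtain ⟨F₁, ℓ, B, ζ, hℓ, hcardF, hζ, hrat, hst⟩ := frame_subfield_zeta hprime Q hQ D hD
        have hle' : H ≤ subfieldSubgroup F₁ B := (le_inf hle hHO).trans hst
        by_cases hℓ2 : ℓ = 2
        · subst hℓ2
          have h2 : (2 : F) ≠ 0 := fun h => ase_not_odd_of_two h hodd
          exact absurd (sub2_plus_odd h2 (by decide) Q hQ F₁ hcardF B ζ hζ hrat) hminus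
        · exact Or.inr (Or.inr (Or.inr (Or.inr (Or.inr (Or.inr (Or.inr (Or.inr (Or.inr (Or.inr (Or.inr (Or.inr
            (Or.inl ⟨F₁, ℓ, B, ζ, hℓ, hℓ.odd_of_ne_two hℓ2, hcardF, hζ, hrat, max_principle hH hle'
              (omega_not_le_subfield' (by norm_num) Q hQ F₁ (asco_ne_top_of_card_pow hℓ hcardF) B)⟩))))))))))))

/-- a non-degenerate 5-space -/
theorem e10_half (W : Submodule F (Fin 10 → F)) (hW : IsNondegenerateOn (QuadraticMap.polar (⇑Q)) W)
    (hd : Module.finrank F W = 5) (hle : H ≤ subspaceStabilizer W) : ConclE10 (⇑Q) H := by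
  classical
  have hHΩ : H ≤ omegaGL (⇑Q) := hH.1.le
  have hHO : H ≤ isometryGroup F (⇑Q) := hHΩ.trans (omega_le_iso _)
  obtain ⟨D, hD0, hD, hst⟩ := half_decomp Q hQ W hW (by norm_num) hd (by norm_num)
  have hle' : H ≤ decompositionStabilizer D := (le_inf hle hHO).trans hst
  by_cases hiso : AreIsometricFor (⇑Q) (D 0) (D 1)
  · exact e10_dec Q hQ hminus H hH D (e10_orth_of_halves (⇑Q) D hD hiso) hle'
  · have hodd : Odd (Fintype.card F) := odd_card_of_nd_odd Q W hW (by rw [hd]; decide)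
    have hmax : H = decompositionStabilizer D ⊓ omegaGL (⇑Q) :=
      max_principle hH hle' (asepr_omega_not_le_dec_ge2 (by norm_num) Q hQ D hD.decomp (by norm_num))
    rcases e10_mod4 hodd with h1 | h3
    · exact Or.inr (Or.inr (Or.inr (Or.inr (Or.inr (Or.inr (Or.inr (Or.inr (Or.inr (Or.inl
        ⟨h1, D, hD, hiso, hmax⟩)))))))))
    · exfalso
      apply hminus
      refine plus_of_non_iso_halves ?_ Q hQ (by decide) D hD hiso
      rw [FiniteField.isSquare_neg_one_iff]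
      omega

/-- a field of degree 2 closed under the adjoint -/
theorem e10_field2 (hirr : Irr H) (K : Subalgebra F (Matrix (Fin 10) (Fin 10) F)) (hK : IsFieldSubalgebra 2 K)
    (hstar : ∀ k ∈ K, oadj (⇑Q) k ∈ K) (hle : H ≤ subalgebraNormalizer K) : ConclE10 (⇑Q) H := by
  have hHΩ : H ≤ omegaGL (⇑Q) := hH.1.le
  have hHO : H ≤ isometryGroup F (⇑Q) := hHΩ.trans (omega_le_iso _)
  have hmax : H = subalgebraNormalizer K ⊓ omegaGL (⇑Q) :=
    max_principle hH hle (omega_not_le_field' (by norm_num) Q hQ (le_refl 2) K hK)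
  rcases efield_two (by norm_num) (by decide) Q hQ hirr hHO K hK hstar hle with ⟨hodd, hsa⟩ | ⟨hadj, hnsa, hsim⟩
  · exact Or.inr (Or.inr (Or.inr (Or.inr (Or.inr (Or.inr (Or.inr (Or.inr (Or.inr (Or.inr (Or.inl
      ⟨hodd, K, hK, hsa, hmax⟩))))))))))
  · exact Or.inr (Or.inr (Or.inr (Or.inr (Or.inr (Or.inr (Or.inr (Or.inr (Or.inr (Or.inr (Or.inr (Or.inl
      ⟨K, hK, hadj, hnsa, hsim, hmax⟩)))))))))))

/-- the tensor decompositions `2 ⊗ 5` -/
theorem e10_tensor25 (hirr : Irr H) (e : Fin 10 ≃ Fin 2 × Fin 5) (P : GL (Fin 10) F)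
    (hGT : H ≤ tensorProductSubgroup 2 5 e P) (A : Matrix (Fin 2) (Fin 2) F) (B : Matrix (Fin 5) (Fin 5) F)
    (hA : IsUnit A.det) (hB : IsUnit B.det) (hsign : (Aᵀ = A ∧ Bᵀ = B) ∨ (Aᵀ = -A ∧ Bᵀ = -B))
    (hAB : KronGram (QuadraticMap.polar (⇑Q)) e P A B) : ConclE10 (⇑Q) H := by
  classical
  have hHΩ : H ≤ omegaGL (⇑Q) := hH.1.le
  have hHO : H ≤ isometryGroup F (⇑Q) := hHΩ.trans (omega_le_iso _)
  by_cases h2 : (2 : F) = 0
  · -- characteristic 2 : `Q` vanishes on the pure tensors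
    exfalso
    apply hminus
    have hneg : ∀ {m : ℕ} (X : Matrix (Fin m) (Fin m) F), -X = X := by
      intro m X
      have h2' : (2 : F) • X = 0 := by rw [h2, zero_smul]
      rw [two_smul] at h2'
      exact neg_eq_of_add_eq_zero_left h2'
    have hsym : Aᵀ = A ∧ Bᵀ = B := by
      rcases hsign with h | h
      · exact h
      · exact ⟨by rw [h.1, hneg], by rw [h.2, hneg]⟩
    obtain ⟨hAa, hBa⟩ := etensor_alt_char2 h2 Q hQ hirr hHO (by norm_num) (by norm_num) e P hGT A B hA hB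
      hsym.1 hsym.2 hAB
    have hpure := etensor_pure_char2 h2 Q hQ hirr hHO (by norm_num) (by norm_num) e P hGT A B hAa hBa
      hsym.1 hsym.2 hAB
    exact Cfsg.Agent.Lib.helper8.ASEC.asec_plus_of_pure_left Q e P (fun x₁ x₂ => hpure x₁ x₂)
  · rcases hsign with ⟨hAs, hBs⟩ | ⟨hAs, hBs⟩
    swap
    · exfalso
      exact hB.ne_zero (e10_skew_odd_det h2 (by decide) B hBs)
    have hK : Cfsg.Agent.Lib.Helper18.ASP.KrGram (QuadraticMap.polar (⇑Q)) e P A B := hAB
    rcases Cfsg.Agent.Lib.helper8.ASEC.asec_sym_dim2 h2 Q hHO (by norm_num) e P A B hAs hA.ne_zero hB.ne_zero hK hGT with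
      ⟨D, hD, hts, -⟩ | ⟨K, hK2, hadj, hnsa, hsim, hle⟩
    · exfalso
      apply hminus
      refine ase_plus_of_ts (⇑Q) (D 0) (hts 0) ?_
      rw [hD.finrank_eq 0]
    · exact e10_field2 Q hQ hminus H hH hirr K hK2 (e10_oadj_of_adjClosed Q hQ K hadj) hle

/-- every normal subgroup of an irreducible maximal subgroup is scalar or absolutely irreducible, or the row holds -/
theorem e10_normal (hirr : Irr H) {N : Subgroup (GL (Fin 10) F)} (hN : NormalIn N H) :
    ConclE10 (⇑Q) H ∨ N ≤ scalars (Fin 10) F ∨ AbsIrr N := by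
  classical
  have hHΩ : H ≤ omegaGL (⇑Q) := hH.1.le
  have hHO : H ≤ isometryGroup F (⇑Q) := hHΩ.trans (omega_le_iso _)
  rcases en_dichotomy (by norm_num) Q hQ hirr hHO hN with ⟨t, k, D, hD, hle⟩ | ⟨t, E, τ, hE, hτ, hτ2, hfp⟩ |
    ⟨r, K', hr, hrn, hK', hK'le, hZ, hle⟩ | ⟨k, d, e, P, A, B, hk1, hkn, hnkd, hGT, hA, hB, hsign, hAB⟩ | h | h
  · exact Or.inl (e10_dec Q hQ hminus H hH D hD hle)
  · -- a fixed-point-free pairing of the idempotents
    left
    by_cases ht2 : t = 2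
    · subst ht2
      exfalso
      apply hminus
      have h01 : τ 0 = 1 := by
        have := hfp 0
        have h2 : ∀ j : Fin 2, j ≠ 0 → j = 1 := by decide
        exact h2 _ this
      have hτ0 : oadj (⇑Q) (E 0) = E 1 := by rw [hτ 0, h01]
      obtain ⟨k, hD, hts, -⟩ := epair_two (by norm_num) Q hQ hirr hHO hN E hE hτ0
      have hcard := Cfsg.Agent.Lib.Helper28.Ld.card_eq _ hD
      refine ase_plus_of_ts (⇑Q) _ (hts 0) ?_
      rw [hD.finrank_eq 0]
      omega
    · have ht : 2 < t := by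
        have := hE.two_le
        omega
      obtain ⟨t', k', D', hD', hle'⟩ := epair_many Q hQ hHO hN E hE τ hτ hτ2 hfp ht
      exact e10_dec Q hQ hminus H hH D' hD' hle'
  · -- the centre of the commutant is a field of degree `b ≥ 2`
    left
    have hstarZ : ∀ k ∈ asgZ N, oadj (⇑Q) k ∈ asgZ N := fun k hk => star_mem_Z Q hQ (hN.1.trans hHO) k hk
    have hleZ : H ≤ subalgebraNormalizer (asgZ N) := asgclif_normalizes_Z hN
    have hb10 : Module.finrank F (asgZ N) ∣ 10 := field_finrank_dvd (by norm_num) (asgZ N) hZ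
    have hb2 : 2 ≤ Module.finrank F (asgZ N) := by
      have h1 : Module.finrank F K' ≤ Module.finrank F (asgZ N) :=
        Submodule.finrank_mono (show Subalgebra.toSubmodule K' ≤ Subalgebra.toSubmodule (asgZ N) from hK'le)
      have h2 : Module.finrank F K' = r := hK'.finrank_eq
      have := hr.two_le
      omega
    have hbcases : 2 ∣ Module.finrank F (asgZ N) ∨ Module.finrank F (asgZ N) = 5 := by
      have hb10' : Module.finrank F (asgZ N) ≤ 10 := Nat.le_of_dvd (by norm_num) hb10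
      generalize Module.finrank F (asgZ N) = b at hb10 hb2 hb10'
      interval_cases b <;> simp_all
    rcases hbcases with h2b | h5
    · obtain ⟨K₂, hK₂, -, hnorm, hstar₂⟩ := efield_sub Q hQ (asgZ N) hZ (by omega) hstarZ 2 h2b
      exact e10_field2 Q hQ hminus H hH hirr K₂ hK₂ hstar₂ (hleZ.trans hnorm)
    · rw [h5] at hZ
      have hsa := efield_odd_sa Q hQ (by decide) (asgZ N) hZ hstarZ
      rcases efield_half (by norm_num) (by norm_num) Q hQ hirr hHO (asgZ N) hZ hsa hleZ with hp | ⟨K₂, hK₂, hstar₂, hle₂⟩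
      · exact absurd hp hminus
      · exact e10_field2 Q hQ hminus H hH hirr K₂ hK₂ hstar₂ hle₂
  · -- a tensor decomposition
    left
    have hkd : (k = 2 ∧ d = 5) ∨ (k = 5 ∧ d = 2) := by
      clear hAB hsign hA hB A B hGT e
      interval_cases k <;> omega
    rcases hkd with ⟨rfl, rfl⟩ | ⟨rfl, rfl⟩
    · exact e10_tensor25 Q hQ hminus H hH hirr e P hGT A B hA hB hsign hAB
    · have hAB' := kronGram_swap _ e P A B hAB
      have hGT' : H ≤ tensorProductSubgroup 2 5 (e.trans (Equiv.prodComm (Fin 5) (Fin 2))) P := by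
        rw [← tensor_swap]; exact hGT
      have hsign' : (Bᵀ = B ∧ Aᵀ = A) ∨ (Bᵀ = -B ∧ Aᵀ = -A) := by
        rcases hsign with h | h
        · exact Or.inl ⟨h.2, h.1⟩
        · exact Or.inr ⟨h.2, h.1⟩
      exact e10_tensor25 Q hQ hminus H hH hirr _ P hGT' B A hB hA hsign' hAB'
  · exact Or.inr (Or.inl h)
  · exact Or.inr (Or.inr h)

/-- S5850 over a bundled form -/
theorem e10_fin : ConclE10 (⇑Q) H := by
  classical
  have hHΩ : H ≤ omegaGL (⇑Q) := hH.1.le
  have hHO : H ≤ isometryGroup F (⇑Q) := hHΩ.trans (omega_le_iso _)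
  have hstab : ∀ W : Submodule F (Fin 10 → F), W ≠ ⊥ → W ≠ ⊤ → H ≤ subspaceStabilizer W →
      H = subspaceStabilizer W ⊓ omegaGL (⇑Q) := fun W h0 h1 hle =>
    max_principle hH hle (omega_not_le_stab' (by norm_num) Q hQ W h0 h1)
  -- a non-singular vector
  have hvec : ∀ v : Fin 10 → F, Q v ≠ 0 → H ≤ subspaceStabilizer (Submodule.span F {v}) → ConclE10 (⇑Q) H := by
    intro v hv hle
    obtain ⟨h0, h1, hfr⟩ := ase_span_facts (by norm_num) Q v hv
    by_cases h2 : (2 : F) = 0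
    · exact Or.inr (Or.inr (Or.inr (Or.inr (Or.inr (Or.inl ⟨ase_not_odd_of_two h2, v, hv, hstab _ h0 h1 hle⟩)))))
    · exact Or.inr (Or.inl ⟨asco_odd_card h2, _, h0, h1, by rw [hfr]; exact odd_one, by rw [hfr]; norm_num,
        ase_span_nd h2 Q v hv, hstab _ h0 h1 hle⟩)
  -- a non-degenerate plane
  have hplane : ∀ W : Submodule F (Fin 10 → F), Module.finrank F W = 2 →
      IsNondegenerateOn (QuadraticMap.polar (⇑Q)) W → H ≤ subspaceStabilizer W → ConclE10 (⇑Q) H := by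
    intro W hd hnd hle
    have h0 : W ≠ ⊥ := by
      intro h
      rw [h, finrank_bot] at hd
      omega
    have h1 : W ≠ ⊤ := by
      intro h
      rw [h, finrank_top, Module.finrank_fintype_fun_eq_card, Fintype.card_fin] at hd
      omega
    by_cases hp : IsPlusTypeOn (⇑Q) W
    · by_cases h4 : 4 ≤ Fintype.card F
      · exact Or.inr (Or.inr (Or.inr (Or.inl ⟨h4, W, hd, hnd, hp, hstab W h0 h1 hle⟩)))
      · obtain ⟨v, -, hv, hst⟩ := plus_plane_small Q hQ (by omega) W hnd hd hp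
        exact hvec v hv ((le_inf hle hHO).trans hst)
    · exact Or.inr (Or.inr (Or.inl ⟨W, hd, hnd, hp, hstab W h0 h1 hle⟩))
  by_cases hirr : Irr H
  swap
  · -- Stage A
    rcases ered_case Q hQ hHO hirr with ⟨W, h0, hts, hle⟩ | ⟨W, h0, h1, hnd, hle⟩ | ⟨h2, v, hv, hle⟩
    · exact Or.inl ⟨W, h0, hts, hstab W h0 (ase_ts_ne_top (by norm_num) Q hQ W hts) hle⟩
    · have hlt : Module.finrank F W < 10 := by
        have h := Submodule.finrank_lt h1
        rwa [Module.finrank_fintype_fun_eq_card, Fintype.card_fin] at h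
      have hpos : 0 < Module.finrank F W := Module.finrank_pos_iff_exists_ne_zero.mpr (by
        obtain ⟨w, hw, hw0⟩ := (Submodule.ne_bot_iff W).mp h0
        exact ⟨⟨w, hw⟩, fun h => hw0 (congrArg Subtype.val h)⟩)
      rcases Nat.even_or_odd (Module.finrank F W) with hev | hodd
      · obtain ⟨j, hj⟩ := hev
        have hj' : j = 1 ∨ j = 2 ∨ j = 3 ∨ j = 4 := by omega
        rcases hj' with rfl | rfl | rfl | rfl
        · exact hplane W (by omega) hnd hle
        · exact Or.inr (Or.inr (Or.inr (Or.inr (Or.inl ⟨W, by omega, hnd, hstab W h0 h1 hle⟩))))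
        · obtain ⟨W', hdim, hnd', hst⟩ := end_perp Q hQ W hnd
          have hd' : Module.finrank F W' = 4 := by omega
          have hle' : H ≤ subspaceStabilizer W' := (le_inf hle hHO).trans hst
          have h0' : W' ≠ ⊥ := by
            intro h
            rw [h, finrank_bot] at hd'
            omega
          have h1' : W' ≠ ⊤ := by
            intro h
            rw [h, finrank_top, Module.finrank_fintype_fun_eq_card, Fintype.card_fin] at hd'
            omega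
          exact Or.inr (Or.inr (Or.inr (Or.inr (Or.inl ⟨W', hd', hnd', hstab W' h0' h1' hle'⟩))))
        · obtain ⟨W', hdim, hnd', hst⟩ := end_perp Q hQ W hnd
          exact hplane W' (by omega) hnd' ((le_inf hle hHO).trans hst)
      · by_cases h5 : Module.finrank F W = 5
        · exact e10_half Q hQ hminus H hH W hnd h5 hle
        · exact Or.inr (Or.inl ⟨odd_card_of_nd_odd Q W hnd hodd, W, h0, h1, hodd, by omega, hnd, hstab W h0 h1 hle⟩)
    · exact hvec v hv hle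
  -- Stage B
  by_cases hconcl : ConclE10 (⇑Q) H
  · exact hconcl
  have hD : AllNormalAbsIrr H := by
    intro N hN
    rcases e10_normal Q hQ hminus H hH hirr hN with h | h | h
    · exact absurd h hconcl
    · exact Or.inl h
    · exact Or.inr h
  obtain ⟨N, hNmin⟩ := exists_minNonscalar H (irr_not_scalar (by norm_num) hirr)
  have hNn : NormalIn N H := hNmin.1
  have hNO : N ≤ isometryGroup F (⇑Q) := hNn.1.trans hHO
  have hA : AbsIrr N := (hD N hNn).resolve_left hNmin.2.1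
  have hcomm := commutator_normalIn hNn
  rcases hNmin.2.2 _ hcomm (Subgroup.commutator_le_self N) with hab | hperf
  · -- D1
    exfalso
    obtain ⟨r, m, hr, hrm⟩ := e10_d1_prime_pow (by norm_num) hNmin hA hab
    exact e10_not_prime_pow hr hrm
  · -- D2
    have hQ' : IsNondegenerateQuadraticForm (⇑Q) := isNondegenerateQuadraticForm_coe Q hQ
    have hfix : ∀ h ∈ H, ∀ v : Fin 10 → F, Q ((h : Matrix (Fin 10) (Fin 10) F) *ᵥ v) = Q v :=
      fun h hh v => hHO hh v v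
    obtain ⟨hsimp, hnab⟩ : IsSimpleGroup (N ⧸ (scalars (Fin 10) F).subgroupOf N) ∧
        ¬ IsMulCommutative (N ⧸ (scalars (Fin 10) F).subgroupOf N) := by
      rcases Cfsg.Agent.Lib.Helper9.QD2T.quad_perfect_rows (Or.inr (Or.inl rfl)) (⇑Q) hQ' hfix hirr hD hNmin hperf with
        h | ⟨h8, -, -⟩
      · exact h
      · omega
    by_cases hsub : ∃ F₀ : Subfield F, F₀ ≠ ⊤ ∧ RealisableOver F₀ (matrixSet N)
    · obtain ⟨F₀, h0, hR⟩ := hsub
      obtain ⟨F₁, ℓ, B, ζ, hℓ, hcard, hζ, hrat, hle⟩ := equad_rational (by norm_num) Q hQ hNn hA hHO F₀ h0 hR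
      by_cases hℓ2 : ℓ = 2
      · subst hℓ2
        by_cases h2 : (2 : F) = 0
        · exact absurd (sub2_plus_even h2 (by decide) Q hQ F₁ hcard B ζ hζ hrat) hminus
        · exact absurd (sub2_plus_odd h2 (by decide) Q hQ F₁ hcard B ζ hζ hrat) hminus
      · exact Or.inr (Or.inr (Or.inr (Or.inr (Or.inr (Or.inr (Or.inr (Or.inr (Or.inr (Or.inr (Or.inr (Or.inr
          (Or.inl ⟨F₁, ℓ, B, ζ, hℓ, hℓ.odd_of_ne_two hℓ2, hcard, hζ, hrat, max_principle hH hle
            (omega_not_le_subfield' (by norm_num) Q hQ F₁ (asco_ne_top_of_card_pow hℓ hcard) B)⟩))))))))))))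
    · -- residual
      refine Or.inr (Or.inr (Or.inr (Or.inr (Or.inr (Or.inr (Or.inr (Or.inr (Or.inr (Or.inr (Or.inr (Or.inr
        (Or.inr ⟨N, ⟨hNn.1, hNn.2, hperf, hsimp, hnab, centralizer_scalar_of hNn hperf hA, hA, ?_⟩, ?_⟩))))))))))))
      · intro F₀ h0 hR
        exact hsub ⟨F₀, h0, hR⟩
      · rintro ⟨σ, f, hf, hfix'⟩
        exact hsub (equad_unitary_realisable Q hQ hA hNO σ f hf hfix')

end Row

/-- S5850 -/
theorem s5850 {F : Type*} [Field F] [Fintype F] (Q : (Fin 10 → F) → F) (hQ : Cfsg.Geo.IsNondegenerateQuadraticForm Q) (hminus : ¬ Cfsg.Geo.IsPlusTypeOn Q ⊤) (H : Subgroup (Matrix.GeneralLinearGroup (Fin 10) F)) (hH : Cfsg.Geo.IsMaximalIn (Cfsg.Geo.omegaGL Q) H) :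
    (∃ W : Submodule F (Fin 10 → F), W ≠ ⊥ ∧ Cfsg.Geo.IsTotallySingularQuad Q W ∧ H = Cfsg.Geo.subspaceStabilizer W ⊓ Cfsg.Geo.omegaGL Q) ∨
    (Odd (Fintype.card F) ∧ ∃ W : Submodule F (Fin 10 → F), W ≠ ⊥ ∧ W ≠ ⊤ ∧ Odd (Module.finrank F W) ∧ 2 * Module.finrank F W ≠ 10 ∧ Cfsg.Geo.IsNondegenerateOn (QuadraticMap.polar Q) W ∧ H = Cfsg.Geo.subspaceStabilizer W ⊓ Cfsg.Geo.omegaGL Q) ∨
    (∃ W : Submodule F (Fin 10 → F), Module.finrank F W = 2 ∧ Cfsg.Geo.IsNondegenerateOn (QuadraticMap.polar Q) W ∧ ¬ Cfsg.Geo.IsPlusTypeOn Q W ∧ H = Cfsg.Geo.subspaceStabilizer W ⊓ Cfsg.Geo.omegaGL Q) ∨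
    (4 ≤ Fintype.card F ∧ ∃ W : Submodule F (Fin 10 → F), Module.finrank F W = 2 ∧ Cfsg.Geo.IsNondegenerateOn (QuadraticMap.polar Q) W ∧ Cfsg.Geo.IsPlusTypeOn Q W ∧ H = Cfsg.Geo.subspaceStabilizer W ⊓ Cfsg.Geo.omegaGL Q) ∨
    (∃ W : Submodule F (Fin 10 → F), Module.finrank F W = 4 ∧ Cfsg.Geo.IsNondegenerateOn (QuadraticMap.polar Q) W ∧ H = Cfsg.Geo.subspaceStabilizer W ⊓ Cfsg.Geo.omegaGL Q) ∨
    (¬ Odd (Fintype.card F) ∧ ∃ v : (Fin 10 → F), Q v ≠ 0 ∧ H = Cfsg.Geo.subspaceStabilizer (Submodule.span F {v}) ⊓ Cfsg.Geo.omegaGL Q) ∨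
    ((∃ p : ℕ, p.Prime ∧ Fintype.card F = p ∧ (p % 4 = 3)) ∧ ∃ D : Fin 10 → Submodule F (Fin 10 → F), Cfsg.Geo.IsOrthogonalMDecomposition Q 1 D ∧ H = Cfsg.Geo.decompositionStabilizer D ⊓ Cfsg.Geo.omegaGL Q) ∨
    (Fintype.card F ≠ 3 ∧ ∃ D : Fin 5 → Submodule F (Fin 10 → F), Cfsg.Geo.IsOrthogonalMDecomposition Q 2 D ∧ H = Cfsg.Geo.decompositionStabilizer D ⊓ Cfsg.Geo.omegaGL Q) ∨
    (Fintype.card F % 4 = 3 ∧ ∃ D : Fin 2 → Submodule F (Fin 10 → F), Cfsg.Geo.IsOrthogonalMDecomposition Q 5 D ∧ H = Cfsg.Geo.decompositionStabilizer D ⊓ Cfsg.Geo.omegaGL Q) ∨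
    (Fintype.card F % 4 = 1 ∧ ∃ D : Fin 2 → Submodule F (Fin 10 → F), Cfsg.Geo.IsNondegenerateMDecomposition (QuadraticMap.polar Q) 5 D ∧ ¬ Cfsg.Geo.AreIsometricFor Q (D 0) (D 1) ∧ H = Cfsg.Geo.decompositionStabilizer D ⊓ Cfsg.Geo.omegaGL Q) ∨
    (Odd (Fintype.card F) ∧ ∃ K : Subalgebra F (Matrix (Fin 10) (Fin 10) F), Cfsg.Geo.IsFieldSubalgebra 2 K ∧ Cfsg.Geo.IsSelfAdjointFor (QuadraticMap.polar Q) K ∧ H = Cfsg.Geo.subalgebraNormalizer K ⊓ Cfsg.Geo.omegaGL Q) ∨
    (∃ K : Subalgebra F (Matrix (Fin 10) (Fin 10) F), Cfsg.Geo.IsFieldSubalgebra 2 K ∧ Cfsg.Geo.IsAdjointClosedFor (QuadraticMap.polar Q) K ∧ ¬ Cfsg.Geo.IsSelfAdjointFor (QuadraticMap.polar Q) K ∧ (∀ k ∈ K, ∃ c : F, ∀ v : (Fin 10 → F), Q (Matrix.mulVec k v) = c * Q v) ∧ H = Cfsg.Geo.subalgebraNormalizer K ⊓ Cfsg.Geo.omegaGL Q) ∨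
    (∃ (F₀ : Subfield F) (r : ℕ) (P : Matrix.GeneralLinearGroup (Fin 10) F) (ζ : F), r.Prime ∧ Odd r ∧ Fintype.card F = Nat.card F₀ ^ r ∧ ζ ≠ 0 ∧ Cfsg.Geo.IsQuadFormRationalStructure (fun v : Fin 10 → F => ζ * Q v) F₀ P ∧ H = Cfsg.Geo.subfieldSubgroup F₀ P ⊓ Cfsg.Geo.omegaGL Q) ∨
    Cfsg.Geo.InOrthogonalResidualClass H := by
  have := e10_fin (Cfsg.Agent.Lib.Helper28.OBundle.bundle Q hQ)
    (Cfsg.Agent.Lib.Helper28.OBundle.bundle_nondeg Q hQ) hminus H hH
  exact this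

end Cfsg.Agent.Lib.Helper16.E10M
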